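import Mathlib

/-!
# S3467, S3470, S3471: interface for the elimination of the simple sections (helper374)

`L = PSp₆(q)`, `Ω₇(q)`, `PΩ₈⁺(q)`, `q = 5 ^ m`, or (`PSp₆(q)`, `PΩ₈⁺(q)`) `q = 2 ^ m`, `m ≥ 2`.

* `R6 q = (q² - q + 1) / (3, q + 1)`, `R3 q = (q² + q + 1) / (3, q - 1)`, `R4 q = (q² + 1) / (2, q - 1)`;
* `Om5 q N`, `Om2 q N` : what is used of `N ∈ ω(L)`;
* `H5 m S`, `H2 m S` : the hypotheses on the simple section `S` (not `≅ A₇, L₂(u)`, `u` odd), `q = 5 ^ m`, `q = 2 ^ m`;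
* `HA p m S` : the hypotheses on `S ≅ L₂(u)`, `u` odd.
-/

set_option autoImplicit false

namespace Cfsg.Agent.H374.S6

/-- `(q² - q + 1) / (3, q + 1)` -/
def R6 (q : ℕ) : ℕ := (q ^ 2 - q + 1) / Nat.gcd 3 (q + 1)

/-- `(q² + q + 1) / (3, q - 1)` -/
def R3 (q : ℕ) : ℕ := (q ^ 2 + q + 1) / Nat.gcd 3 (q - 1)

/-- `(q² + 1) / (2, q - 1)` -/
def R4 (q : ℕ) : ℕ := (q ^ 2 + 1) / Nat.gcd 2 (q - 1)

/-- the element orders of `PSp₆(q)`, `Ω₇(q)`, `PΩ₈⁺(q)`, `q = 5 ^ m` -/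
def Om5 (q N : ℕ) : Prop :=
  N ∣ (q ^ 3 + 1) / 2 ∨ N ∣ (q ^ 3 - 1) / 2 ∨ N ∣ (q ^ 4 - 1) / 2 ∨ N ∣ 5 * (q ^ 2 + 1) ∨ N ∣ 5 * (q ^ 2 - 1) ∨ N ∣ 25

/-- the element orders of `PSp₆(q)`, `PΩ₈⁺(q)`, `q = 2 ^ m` -/
def Om2 (q N : ℕ) : Prop :=
  N ∣ q ^ 3 + 1 ∨ N ∣ q ^ 3 - 1 ∨ N ∣ q ^ 4 - 1 ∨ N ∣ 2 * (q ^ 2 + 1) ∨ N ∣ 2 * (q ^ 2 - 1) ∨ N ∣ 4 * (q + 1) ∨
    N ∣ 4 * (q - 1) ∨ N ∣ 8

/-- the upper bound for the spectrum, both characteristics -/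
def Om (p q N : ℕ) : Prop := (p = 5 ∧ Om5 q N) ∨ (p = 2 ∧ Om2 q N)

/-- **The hypotheses on the simple section `S`, `q = 5 ^ m`.** -/
structure H5 (m : ℕ) (S : Type*) [Group S] : Prop where
  hm : 1 ≤ m
  om : ∀ x : S, Om5 (5 ^ m) (orderOf x)
  six : ∃ x : S, orderOf x = R6 (5 ^ m)
  three : ∀ X : ℕ, (∃ x : S, orderOf x = X) →
    (∀ r : ℕ, r.Prime → r ∣ R6 (5 ^ m) → ∀ k, r ^ k ∣ Nat.card S → r ^ k ∣ X) → ∃ x : S, orderOf x = R3 (5 ^ m)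

/-- **The hypotheses on the simple section `S`, `q = 2 ^ m`.** -/
structure H2 (m : ℕ) (S : Type*) [Group S] : Prop where
  hm : 2 ≤ m
  om : ∀ x : S, Om2 (2 ^ m) (orderOf x)
  six : ∃ x : S, orderOf x = R6 (2 ^ m)
  three : ∃ x : S, orderOf x = R3 (2 ^ m)

/-- **The hypotheses on the simple section `S ≅ L₂(u)`, `u` odd.** -/
structure HA (p m : ℕ) (S : Type*) [Group S] : Prop where
  par : (p = 5 ∧ 1 ≤ m) ∨ (p = 2 ∧ 2 ≤ m)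
  om : ∀ x : S, Om p (p ^ m) (orderOf x)
  two : ((∃ x : S, orderOf x = R3 (p ^ m)) ∧ (∃ x : S, orderOf x = R6 (p ^ m))) ∨
    ((∃ x : S, orderOf x = R3 (p ^ m)) ∧ (∃ x : S, orderOf x = R4 (p ^ m))) ∨
    ((∃ x : S, orderOf x = R4 (p ^ m)) ∧ (∃ x : S, orderOf x = R6 (p ^ m)))

variable {m : ℕ} {S T : Type*} [Group S] [Group T]

theorem H5.of_mulEquiv (e : S ≃* T) (h : H5 m S) : H5 m T where
  hm := h.hm
  om x := by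
    have := h.om (e.symm x)
    rwa [MulEquiv.orderOf_eq] at this
  six := by
    obtain ⟨x, hx⟩ := h.six
    exact ⟨e x, by rw [MulEquiv.orderOf_eq, hx]⟩
  three X hX hc := by
    obtain ⟨x, hx⟩ := hX
    obtain ⟨y, hy⟩ := h.three X ⟨e.symm x, by rw [MulEquiv.orderOf_eq, hx]⟩ (by
      rw [Nat.card_congr e.toEquiv]
      exact hc)
    exact ⟨e y, by rw [MulEquiv.orderOf_eq, hy]⟩

theorem H2.of_mulEquiv (e : S ≃* T) (h : H2 m S) : H2 m T where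
  hm := h.hm
  om x := by
    have := h.om (e.symm x)
    rwa [MulEquiv.orderOf_eq] at this
  six := by
    obtain ⟨x, hx⟩ := h.six
    exact ⟨e x, by rw [MulEquiv.orderOf_eq, hx]⟩
  three := by
    obtain ⟨x, hx⟩ := h.three
    exact ⟨e x, by rw [MulEquiv.orderOf_eq, hx]⟩

theorem HA.of_mulEquiv {p : ℕ} (e : S ≃* T) (h : HA p m S) : HA p m T where
  par := h.par
  om x := by
    have := h.om (e.symm x)
    rwa [MulEquiv.orderOf_eq] at this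
  two := by
    have key : ∀ N : ℕ, (∃ x : S, orderOf x = N) → ∃ x : T, orderOf x = N := fun N ⟨x, hx⟩ =>
      ⟨e x, by rw [MulEquiv.orderOf_eq, hx]⟩
    rcases h.two with ⟨h1, h2⟩ | ⟨h1, h2⟩ | ⟨h1, h2⟩
    · exact Or.inl ⟨key _ h1, key _ h2⟩
    · exact Or.inr (Or.inl ⟨key _ h1, key _ h2⟩)
    · exact Or.inr (Or.inr ⟨key _ h1, key _ h2⟩)

end Cfsg.Agent.H374.S6
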