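import Cfsg.Agent.H374.S6.Num

/-!
# S3467, S3470, S3471: first consequences of the hypotheses `H5` (helper374)

`q = 5 ^ m`; `r6`, `r3` prime divisors of `R6 q`, `R3 q`.

* `six_dvd`, `three_dvd` : orders divisible by `r6` divide `(q³ + 1) / 2` (odd), orders divisible by `r3` divide
  `(q³ - 1) / 2`; `cop` : they are coprime; `no_two`, `no_five6`, `no_five3`, `no_six_three`;
* `full` : if `X` is an element order containing the full `r`-part of `|S|`, `r ∣ R6 q`, then `R6 q ∣ X` and `R3 q` is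
  an element order;
* `key` : for an element order `X` divisible by `R6 q` there is an odd `s` with `s X = (q³ + 1) / 2`, `s² ≤ 12 R6 q` and
  `Y ∣ s X - 1` for all element orders `Y` divisible by a prime divisor of `R3 q`;
* `le6`, `le6'`, `le3`, `le3'` : `N² ≤ 12 (R6 q)³`, `N² ≤ 7 (R3 q)³`;
* `small`, `R6_cases` : `R6 q ∈ {7, 601, 5167}` or `R6 q ≥ 390001`; `q = 5` if `R6 q < 601`.
-/

set_option autoImplicit false

namespace Cfsg.Agent.H374.S6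

variable {m : ℕ} {S : Type*} [Group S]

namespace H5

theorem p5 (h : H5 m S) : P5 (5 ^ m) := p5_pow h.hm

theorem six_dvd (h : H5 m S) {x : S} {r : ℕ} (hr : r.Prime) (h6 : r ∣ R6 (5 ^ m)) (hx : r ∣ orderOf x) :
    orderOf x ∣ ((5 ^ m) ^ 3 + 1) / 2 := h.p5.iso6 hr h6 (h.om x) hx

theorem three_dvd (h : H5 m S) {x : S} {r : ℕ} (hr : r.Prime) (h3 : r ∣ R3 (5 ^ m)) (hx : r ∣ orderOf x) :
    orderOf x ∣ ((5 ^ m) ^ 3 - 1) / 2 := h.p5.iso3 hr h3 (h.om x) hx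

/-- element orders divisible by `r6` are odd -/
theorem odd_six (h : H5 m S) {x : S} {r : ℕ} (hr : r.Prime) (h6 : r ∣ R6 (5 ^ m)) (hx : r ∣ orderOf x) :
    Odd (orderOf x) := Odd.of_dvd_nat h.p5.odd_half (h.six_dvd hr h6 hx)

theorem not_five_six (h : H5 m S) {x : S} {r : ℕ} (hr : r.Prime) (h6 : r ∣ R6 (5 ^ m)) (hx : r ∣ orderOf x) :
    ¬ 5 ∣ orderOf x := fun h5 => h.p5.not_five_add (h5.trans (h.six_dvd hr h6 hx))

theorem not_five_three (h : H5 m S) {x : S} {r : ℕ} (hr : r.Prime) (h3 : r ∣ R3 (5 ^ m)) (hx : r ∣ orderOf x) :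
    ¬ 5 ∣ orderOf x := fun h5 => h.p5.not_five_sub (h5.trans (h.three_dvd hr h3 hx))

/-- **element orders divisible by `r6` and by `r3` are coprime** -/
theorem cop (h : H5 m S) {x y : S} {r t : ℕ} (hr : r.Prime) (h6 : r ∣ R6 (5 ^ m)) (hx : r ∣ orderOf x)
    (ht : t.Prime) (h3 : t ∣ R3 (5 ^ m)) (hy : t ∣ orderOf y) : Nat.Coprime (orderOf x) (orderOf y) :=
  Nat.Coprime.of_dvd (h.six_dvd hr h6 hx) (h.three_dvd ht h3 hy) h.p5.coprime_half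

theorem no_two (h : H5 m S) {r : ℕ} (hr : r.Prime) (h6 : r ∣ R6 (5 ^ m)) : ¬ ∃ x : S, orderOf x = 2 * r := by
  rintro ⟨x, hx⟩
  have h1 := h.odd_six hr h6 (x := x) (by rw [hx]; exact dvd_mul_left _ _)
  rw [hx] at h1
  exact (Nat.not_even_iff_odd.2 h1) (even_two_mul r)

theorem no_five6 (h : H5 m S) {r : ℕ} (hr : r.Prime) (h6 : r ∣ R6 (5 ^ m)) : ¬ ∃ x : S, orderOf x = 5 * r := by
  rintro ⟨x, hx⟩
  exact h.not_five_six hr h6 (x := x) (by rw [hx]; exact dvd_mul_left _ _) (by rw [hx]; exact dvd_mul_right _ _)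

theorem no_five3 (h : H5 m S) {r : ℕ} (hr : r.Prime) (h3 : r ∣ R3 (5 ^ m)) : ¬ ∃ x : S, orderOf x = 5 * r := by
  rintro ⟨x, hx⟩
  exact h.not_five_three hr h3 (x := x) (by rw [hx]; exact dvd_mul_left _ _) (by rw [hx]; exact dvd_mul_right _ _)

theorem no_six_three (h : H5 m S) {r t : ℕ} (hr : r.Prime) (h6 : r ∣ R6 (5 ^ m)) (ht : t.Prime)
    (h3 : t ∣ R3 (5 ^ m)) : ¬ ∃ x : S, orderOf x = r * t := by
  rintro ⟨x, hx⟩
  have h1 := h.cop hr h6 (x := x) (by rw [hx]; exact dvd_mul_right _ _) ht h3 (y := x)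
    (by rw [hx]; exact dvd_mul_left _ _)
  rw [hx] at h1
  have h2 := (Nat.coprime_self (r * t)).1 h1
  have := hr.one_lt
  have := ht.one_lt
  nlinarith

theorem ne_five (h : H5 m S) {r : ℕ} (hr : r.Prime) (h6 : r ∣ R6 (5 ^ m) ∨ r ∣ R3 (5 ^ m)) : r ≠ 5 := by
  rcases h6 with h6 | h6
  · exact h.p5.ne_five6 h6 hr
  · exact h.p5.ne_five3 h6 hr

theorem ne_two (h : H5 m S) {r : ℕ} (h6 : r ∣ R6 (5 ^ m) ∨ r ∣ R3 (5 ^ m)) : r ≠ 2 := by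
  rcases h6 with h6 | h6
  · exact ne_two_of_R6 h.p5.one_le h6
  · exact ne_two_of_R3 h.p5.one_le h6

theorem ne_three (h : H5 m S) {r : ℕ} (h6 : r ∣ R6 (5 ^ m) ∨ r ∣ R3 (5 ^ m)) : r ≠ 3 := by
  rcases h6 with h6 | h6
  · exact ne_three_of_R6 h.p5.one_le h6
  · exact ne_three_of_R3 h.p5.one_le h6

theorem seven_le (h : H5 m S) {r : ℕ} (hr : r.Prime) (h6 : r ∣ R6 (5 ^ m) ∨ r ∣ R3 (5 ^ m)) : 7 ≤ r := by
  have h2 := h.ne_two h6
  have h3 := h.ne_three h6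
  have h5 := h.ne_five hr h6
  have := hr.two_le
  by_contra hlt
  interval_cases r <;> first | omega | (exact absurd hr (by norm_num))

/-! ### Values of `R6`, `R3` -/

theorem R6_five : R6 (5 ^ 1) = 7 := by decide
theorem R3_five : R3 (5 ^ 1) = 31 := by decide
theorem R6_25 : R6 (5 ^ 2) = 601 := by decide
theorem R3_25 : R3 (5 ^ 2) = 217 := by decide
theorem R6_125 : R6 (5 ^ 3) = 5167 := by norm_num [R6]
theorem R3_125 : R3 (5 ^ 3) = 15751 := by norm_num [R3]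
theorem R6_625 : R6 (5 ^ 4) = 390001 := by norm_num [R6]
theorem R3_625 : R3 (5 ^ 4) = 130417 := by norm_num [R3]

theorem R6_big {m : ℕ} (hm : 5 ≤ m) : 390001 ≤ R6 (5 ^ m) := by
  have h1 : 3125 ≤ 5 ^ m := by
    calc 3125 = 5 ^ 5 := by norm_num
      _ ≤ 5 ^ m := Nat.pow_le_pow_right (by norm_num) hm
  have h2 := le_R6 (q := 5 ^ m) (by omega)
  nlinarith

/-- **The small values of `R6`.** -/
theorem R6_cases {m : ℕ} (hm : 1 ≤ m) : (m = 1 ∧ R6 (5 ^ m) = 7 ∧ R3 (5 ^ m) = 31) ∨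
    (m = 2 ∧ R6 (5 ^ m) = 601 ∧ R3 (5 ^ m) = 217) ∨ (m = 3 ∧ R6 (5 ^ m) = 5167 ∧ R3 (5 ^ m) = 15751) ∨
    (4 ≤ m ∧ 390001 ≤ R6 (5 ^ m)) := by
  rcases Nat.lt_or_ge m 4 with h | h
  · interval_cases m
    · exact Or.inl ⟨rfl, R6_five, R3_five⟩
    · exact Or.inr (Or.inl ⟨rfl, R6_25, R3_25⟩)
    · exact Or.inr (Or.inr (Or.inl ⟨rfl, R6_125, R3_125⟩))
  · refine Or.inr (Or.inr (Or.inr ⟨h, ?_⟩))
    rcases Nat.lt_or_ge m 5 with h5 | h5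
    · have : m = 4 := by omega
      subst this
      rw [R6_625]
    · exact R6_big h5

theorem small (h : H5 m S) (h6 : R6 (5 ^ m) < 601) : m = 1 ∧ R6 (5 ^ m) = 7 ∧ R3 (5 ^ m) = 31 := by
  rcases R6_cases h.hm with h1 | h1 | h1 | h1
  · exact h1
  · omega
  · omega
  · omega

theorem seven_le_R6 (h : H5 m S) : 7 ≤ R6 (5 ^ m) := by
  rcases R6_cases h.hm with h1 | h1 | h1 | h1 <;> omega

theorem thirtyone_le_R3 (h : H5 m S) : 31 ≤ R3 (5 ^ m) := by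
  rcases Nat.lt_or_ge m 3 with h1 | h1
  · have := h.hm
    interval_cases m
    · rw [R3_five]
    · rw [R3_25]; norm_num
  · have h2 : 125 ≤ 5 ^ m := by
      calc 125 = 5 ^ 3 := by norm_num
        _ ≤ 5 ^ m := Nat.pow_le_pow_right (by norm_num) h1
    have h3 := le_R3 (q := 5 ^ m) (by omega)
    nlinarith

theorem exists_prime_six (h : H5 m S) : ∃ r : ℕ, r.Prime ∧ r ∣ R6 (5 ^ m) :=
  Nat.exists_prime_and_dvd (by have := h.seven_le_R6; omega)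

theorem exists_prime_three (h : H5 m S) : ∃ r : ℕ, r.Prime ∧ r ∣ R3 (5 ^ m) :=
  Nat.exists_prime_and_dvd (by have := h.thirtyone_le_R3; omega)

/-- `R6 q ∣ |S|` -/
theorem R6_dvd_card (h : H5 m S) : R6 (5 ^ m) ∣ Nat.card S := by
  obtain ⟨x, hx⟩ := h.six
  rw [← hx]
  exact orderOf_dvd_natCard x

/-- `R6 q ∣ X` if `X` contains the full `r`-part of `|S|` for the prime divisors `r` of `R6 q` -/
theorem R6_dvd (h : H5 m S) {X : ℕ}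
    (hc : ∀ r : ℕ, r.Prime → r ∣ R6 (5 ^ m) → ∀ k, r ^ k ∣ Nat.card S → r ^ k ∣ X) : R6 (5 ^ m) ∣ X := by
  rw [Nat.dvd_iff_prime_pow_dvd_dvd]
  intro r k hr hk
  rcases Nat.eq_zero_or_pos k with rfl | hk0
  · simp
  · exact hc r hr ((dvd_pow_self r hk0.ne').trans hk) k (hk.trans h.R6_dvd_card)

/-- **`R6 q ∣ X`, and `R3 q` is an element order.** -/
theorem full (h : H5 m S) {X : ℕ} (hX : ∃ x : S, orderOf x = X)
    (hc : ∀ r : ℕ, r.Prime → r ∣ R6 (5 ^ m) → ∀ k, r ^ k ∣ Nat.card S → r ^ k ∣ X) :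
    R6 (5 ^ m) ∣ X ∧ ∃ x : S, orderOf x = R3 (5 ^ m) :=
  ⟨h.R6_dvd hc, h.three X hX hc⟩

/-- **The key relation.** `s X = (q³ + 1) / 2`, `Y ∣ s X - 1`. -/
theorem key (h : H5 m S) {X : ℕ} (hX : ∃ x : S, orderOf x = X) (h6 : R6 (5 ^ m) ∣ X) :
    ∃ s : ℕ, 0 < s ∧ Odd s ∧ s * X = ((5 ^ m) ^ 3 + 1) / 2 ∧ s ^ 2 ≤ 12 * R6 (5 ^ m) ∧
      (∃ a : ℕ, X = a * R6 (5 ^ m) ∧ 2 * (s * a) = Nat.gcd 3 (5 ^ m + 1) * (5 ^ m + 1)) ∧
      ∀ (Y r : ℕ), (∃ y : S, orderOf y = Y) → r.Prime → r ∣ R3 (5 ^ m) → r ∣ Y → Y ∣ s * X - 1 := by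
  obtain ⟨x, rfl⟩ := hX
  obtain ⟨r, hr, hr6⟩ := h.exists_prime_six
  obtain ⟨s, h1, h2, h3, h4, h5, h7⟩ := h.p5.key h6 (h.six_dvd hr hr6 (hr6.trans h6))
  refine ⟨s, h1, h2, h3, h4, h5, ?_⟩
  rintro Y t ⟨y, rfl⟩ ht h3' hy
  exact h7 _ (h.three_dvd ht h3' hy)

theorem le_half (h : H5 m S) {x : S} {r : ℕ} (hr : r.Prime) (h6 : r ∣ R6 (5 ^ m) ∨ r ∣ R3 (5 ^ m))
    (hx : r ∣ orderOf x) : orderOf x ≤ ((5 ^ m) ^ 3 + 1) / 2 := by
  have h1 := h.p5.half_eq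
  have h2 := h.p5.pow_mod 3
  have h0 : 5 ^ 3 ≤ (5 ^ m) ^ 3 := Nat.pow_le_pow_left h.p5.five_le 3
  rcases h6 with h6 | h6
  · exact Nat.le_of_dvd (by omega) (h.six_dvd hr h6 hx)
  · have := Nat.le_of_dvd (by omega) (h.three_dvd hr h6 hx)
    omega

/-- orders divisible by `r6` or `r3`: `N² ≤ 12 R6³` -/
theorem le6 (h : H5 m S) {x : S} {r : ℕ} (hr : r.Prime) (h6 : r ∣ R6 (5 ^ m) ∨ r ∣ R3 (5 ^ m))
    (hx : r ∣ orderOf x) : orderOf x ^ 2 ≤ 12 * R6 (5 ^ m) ^ 3 := h.p5.bound (h.le_half hr h6 hx)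

/-- orders divisible by `r6` or `r3`: `N² ≤ 7 R3³` -/
theorem le3 (h : H5 m S) {x : S} {r : ℕ} (hr : r.Prime) (h6 : r ∣ R6 (5 ^ m) ∨ r ∣ R3 (5 ^ m))
    (hx : r ∣ orderOf x) : orderOf x ^ 2 ≤ 7 * R3 (5 ^ m) ^ 3 := h.p5.bound3 (h.le_half hr h6 hx)

/-- all orders: `N ≤ 7 R6²` -/
theorem le_all (h : H5 m S) (x : S) : orderOf x ≤ 7 * R6 (5 ^ m) ^ 2 := by
  have hp := h.p5
  have h5 := hp.five_le
  generalize hq : 5 ^ m = q at *
  have h1 := le_R6 hp.one_le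
  have h3 : 5 ^ 3 ≤ q ^ 3 := Nat.pow_le_pow_left h5 3
  have h4 : q ^ 4 ≤ 14 * R6 q ^ 2 := by
    have h6 : (q ^ 2 - q + 1 : ℤ) ≤ 3 * R6 q := by
      have : ((q ^ 2 + 1 : ℕ) : ℤ) ≤ ((3 * R6 q + q : ℕ) : ℤ) := by exact_mod_cast h1
      push_cast at this
      linarith
    have h7 : (5 : ℤ) ≤ q := by exact_mod_cast h5
    have h8 : 25 * (q : ℤ) ^ 2 ≤ 31 * (q ^ 2 - q + 1) - 0 ∨ True := Or.inr trivial
    have h9 : 5 * (q : ℤ) ^ 2 ≤ 6 * (3 * R6 q) := by nlinarith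
    have h10 : (5 * (q : ℤ) ^ 2) ^ 2 ≤ (6 * (3 * R6 q)) ^ 2 := pow_le_pow_left₀ (by positivity) h9 2
    have h11 : (q : ℤ) ^ 4 ≤ 14 * (R6 q : ℤ) ^ 2 := by nlinarith
    exact_mod_cast h11
  have h12 : q ^ 3 ≤ q ^ 4 := Nat.pow_le_pow_right (by omega) (by norm_num)
  have h13 : 25 ≤ q ^ 2 := by nlinarith
  have h14 : 25 * q ^ 2 ≤ q ^ 4 := by nlinarith [Nat.mul_le_mul_right (q ^ 2) h13]
  have hpos : 0 < q ^ 2 - 1 := by omega
  rcases (hq ▸ h.om x : Om5 q (orderOf x)) with h2 | h2 | h2 | h2 | h2 | h2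
  · have := Nat.le_of_dvd (by omega) h2; omega
  · have := Nat.le_of_dvd (by omega) h2; omega
  · have := Nat.le_of_dvd (by omega) h2; omega
  · have := Nat.le_of_dvd (by omega) h2; omega
  · have := Nat.le_of_dvd (by omega) h2; omega
  · have := Nat.le_of_dvd (by omega) h2; omega

end H5

end Cfsg.Agent.H374.S6
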