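import Cfsg.Agent.H374.S6.Defs

/-!
# S3467, S3470, S3471: arithmetic of the spectrum, `q = 5 ^ m` (helper374)
-/

set_option autoImplicit false

namespace Cfsg.Agent.H374.S6

/-- what is used of `q = 5 ^ m` -/
structure P5 (q : ℕ) : Prop where
  five_le : 5 ≤ q
  dvd : 5 ∣ q
  mod4 : q % 4 = 1
  mod3 : q % 3 ≠ 0

theorem p5_pow {m : ℕ} (hm : 1 ≤ m) : P5 (5 ^ m) where
  five_le := by
    calc 5 = 5 ^ 1 := (pow_one 5).symm
      _ ≤ 5 ^ m := Nat.pow_le_pow_right (by norm_num) hm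
  dvd := dvd_pow_self 5 (by omega)
  mod4 := by rw [Nat.pow_mod]; simp
  mod3 := by
    intro h
    have : 3 ∣ 5 ^ m := Nat.dvd_of_mod_eq_zero h
    have := Nat.Prime.dvd_of_dvd_pow Nat.prime_three this
    omega

section

variable {q : ℕ}

theorem cast_six (hq : 1 ≤ q) : ((q ^ 2 - q + 1 : ℕ) : ℤ) = (q : ℤ) ^ 2 - q + 1 := by
  have : q ≤ q ^ 2 := by nlinarith
  push_cast [Nat.cast_sub this]
  ring

theorem gcd_six (q : ℕ) : (Nat.gcd 3 (q + 1) = 1 ∧ ¬ 3 ∣ q + 1) ∨ (Nat.gcd 3 (q + 1) = 3 ∧ 3 ∣ q + 1) := by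
  by_cases h : 3 ∣ q + 1
  · exact Or.inr ⟨Nat.gcd_eq_left h, h⟩
  · exact Or.inl ⟨(Nat.Prime.coprime_iff_not_dvd Nat.prime_three).2 h, h⟩

theorem gcd_three (q : ℕ) : (Nat.gcd 3 (q - 1) = 1 ∧ ¬ 3 ∣ q - 1) ∨ (Nat.gcd 3 (q - 1) = 3 ∧ 3 ∣ q - 1) := by
  by_cases h : 3 ∣ q - 1
  · exact Or.inr ⟨Nat.gcd_eq_left h, h⟩
  · exact Or.inl ⟨(Nat.Prime.coprime_iff_not_dvd Nat.prime_three).2 h, h⟩

/-- `R6 q * (3, q + 1) = q² - q + 1` -/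
theorem R6_mul (hq : 1 ≤ q) : R6 q * Nat.gcd 3 (q + 1) = q ^ 2 - q + 1 := by
  apply Nat.div_mul_cancel
  rcases gcd_six q with ⟨h, -⟩ | ⟨h, h3⟩
  · rw [h]; exact one_dvd _
  · rw [h]
    have h1 : ((3 : ℕ) : ℤ) ∣ ((q ^ 2 - q + 1 : ℕ) : ℤ) := by
      rw [cast_six hq]
      obtain ⟨k, hk⟩ := h3
      have hk' : (q : ℤ) = 3 * k - 1 := by
        have : ((q + 1 : ℕ) : ℤ) = ((3 * k : ℕ) : ℤ) := by rw [hk]
        push_cast at this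
        linarith
      rw [hk']
      exact ⟨3 * k ^ 2 - 3 * k + 1, by push_cast; ring⟩
    exact_mod_cast h1

/-- `R3 q * (3, q - 1) = q² + q + 1` -/
theorem R3_mul (hq : 1 ≤ q) : R3 q * Nat.gcd 3 (q - 1) = q ^ 2 + q + 1 := by
  apply Nat.div_mul_cancel
  rcases gcd_three q with ⟨h, -⟩ | ⟨h, h3⟩
  · rw [h]; exact one_dvd _
  · rw [h]
    obtain ⟨k, hk⟩ := h3
    have hk' : q = 3 * k + 1 := by omega
    rw [hk']
    exact ⟨3 * k ^ 2 + 3 * k + 1, by ring⟩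

theorem not_three_R6 (hq : 1 ≤ q) : ¬ 3 ∣ R6 q := by
  intro h
  have h1 := R6_mul hq
  rcases gcd_six q with ⟨h2, h3⟩ | ⟨h2, h3⟩
  · rw [h2, mul_one] at h1
    rw [h1] at h
    have h4 : ((3 : ℕ) : ℤ) ∣ ((q ^ 2 - q + 1 : ℕ) : ℤ) := by exact_mod_cast h
    rw [cast_six hq] at h4
    have h5 : ¬ ((3 : ℕ) : ℤ) ∣ ((q + 1 : ℕ) : ℤ) := by exact_mod_cast h3
    push_cast at h4 h5
    have h6 : (q : ℤ) % 3 = 0 ∨ (q : ℤ) % 3 = 1 := by omega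
    have h7 : ((q : ℤ) ^ 2 - q + 1) % 3 = 0 := Int.emod_eq_zero_of_dvd h4
    rcases h6 with h6 | h6 <;>
    · simp [pow_two, Int.add_emod, Int.sub_emod, Int.mul_emod, h6] at h7
  · rw [h2] at h1
    obtain ⟨k, hk⟩ := h3
    obtain ⟨t, ht⟩ := h
    have h4 : ((R6 q * 3 : ℕ) : ℤ) = ((q ^ 2 - q + 1 : ℕ) : ℤ) := by rw [h1]
    rw [cast_six hq, ht] at h4
    have hk' : (q : ℤ) = 3 * k - 1 := by
      have : ((q + 1 : ℕ) : ℤ) = ((3 * k : ℕ) : ℤ) := by rw [hk]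
      push_cast at this
      linarith
    rw [hk'] at h4
    push_cast at h4
    have h5 : (9 : ℤ) * (t - k ^ 2 + k) = 3 := by linarith
    omega

theorem not_three_R3 (hq : 1 ≤ q) : ¬ 3 ∣ R3 q := by
  intro h
  have h1 := R3_mul hq
  rcases gcd_three q with ⟨h2, h3⟩ | ⟨h2, h3⟩
  · rw [h2, mul_one] at h1
    rw [h1] at h
    have h6 : q % 3 = 0 ∨ q % 3 = 2 := by omega
    have h7 : (q ^ 2 + q + 1) % 3 = 0 := Nat.mod_eq_zero_of_dvd h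
    rcases h6 with h6 | h6 <;>
    · simp [pow_two, Nat.add_mod, Nat.mul_mod, h6] at h7
  · rw [h2] at h1
    obtain ⟨k, hk⟩ := h3
    obtain ⟨t, ht⟩ := h
    have hk' : q = 3 * k + 1 := by omega
    rw [ht, hk'] at h1
    ring_nf at h1
    omega

theorem odd_six (q : ℕ) : Odd (q ^ 2 - q + 1) := by
  have h : Even (q * (q - 1)) := by
    have := Nat.even_mul_pred_self q
    exact this
  have h1 : q ^ 2 - q = q * (q - 1) := by rw [Nat.mul_sub, mul_one, pow_two]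
  rw [h1]
  exact h.add_one

theorem odd_three (q : ℕ) : Odd (q ^ 2 + q + 1) := by
  have h : Even (q * (q + 1)) := Nat.even_mul_succ_self q
  have h1 : q ^ 2 + q = q * (q + 1) := by ring
  rw [h1]
  exact h.add_one

theorem odd_R6 (hq : 1 ≤ q) : Odd (R6 q) := by
  have h := odd_six q
  rw [← R6_mul hq] at h
  exact (Nat.odd_mul.1 h).1

theorem odd_R3 (hq : 1 ≤ q) : Odd (R3 q) := by
  have h := odd_three q
  rw [← R3_mul hq] at h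
  exact (Nat.odd_mul.1 h).1

/-! ### Primes dividing `R6 q` -/

section six

variable {r : ℕ}

theorem ne_two_of_R6 (hq : 1 ≤ q) (h : r ∣ R6 q) : r ≠ 2 := by
  rintro rfl
  exact (Nat.not_even_iff_odd.2 (odd_R6 hq)) (even_iff_two_dvd.2 h)

theorem ne_three_of_R6 (hq : 1 ≤ q) (h : r ∣ R6 q) : r ≠ 3 := by
  rintro rfl
  exact not_three_R6 hq h

theorem dvd_six_of_R6 (hq : 1 ≤ q) (h : r ∣ R6 q) : (r : ℤ) ∣ (q : ℤ) ^ 2 - q + 1 := by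
  rw [← cast_six hq, ← R6_mul hq]
  exact Int.natCast_dvd_natCast.2 (h.mul_right _)

theorem not_dvd_two_int (hr : r.Prime) (h2 : r ≠ 2) : ¬ (r : ℤ) ∣ 2 := by
  intro h
  have : r ∣ 2 := by exact_mod_cast h
  exact h2 ((Nat.prime_dvd_prime_iff_eq hr Nat.prime_two).1 this)

theorem not_dvd_three_int (hr : r.Prime) (h3 : r ≠ 3) : ¬ (r : ℤ) ∣ 3 := by
  intro h
  have : r ∣ 3 := by exact_mod_cast h
  exact h3 ((Nat.prime_dvd_prime_iff_eq hr Nat.prime_three).1 this)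

theorem not_dvd_one_int (hr : r.Prime) : ¬ (r : ℤ) ∣ 1 := by
  intro h
  have : r ∣ 1 := by exact_mod_cast h
  exact hr.one_lt.ne' (Nat.dvd_one.1 this)

/-- `r ∣ R6 q` is prime to `q` -/
theorem six_q (hq : 1 ≤ q) (hr : r.Prime) (h : r ∣ R6 q) : ¬ (r : ℤ) ∣ (q : ℤ) := by
  intro h1
  have h2 := dvd_six_of_R6 hq h
  apply not_dvd_one_int hr
  have h3 : (r : ℤ) ∣ ((q : ℤ) ^ 2 - q + 1) - q * (q - 1) := dvd_sub h2 (h1.mul_right _)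
  rwa [show ((q : ℤ) ^ 2 - q + 1) - q * (q - 1) = 1 by ring] at h3

theorem six_cube_sub (hq : 1 ≤ q) (hr : r.Prime) (h : r ∣ R6 q) : ¬ (r : ℤ) ∣ (q : ℤ) ^ 3 - 1 := by
  intro h1
  have h2 := dvd_six_of_R6 hq h
  apply not_dvd_two_int hr (ne_two_of_R6 hq h)
  have h3 : (r : ℤ) ∣ ((q : ℤ) ^ 2 - q + 1) * (q + 1) - (q ^ 3 - 1) := dvd_sub (h2.mul_right _) h1
  rwa [show ((q : ℤ) ^ 2 - q + 1) * (q + 1) - (q ^ 3 - 1) = 2 by ring] at h3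

theorem six_four (hq : 1 ≤ q) (hr : r.Prime) (h : r ∣ R6 q) : ¬ (r : ℤ) ∣ (q : ℤ) ^ 4 - 1 := by
  intro h1
  have h2 := dvd_six_of_R6 hq h
  apply not_dvd_three_int hr (ne_three_of_R6 hq h)
  have h3 : (r : ℤ) ∣ ((q : ℤ) ^ 2 - q + 1) * ((q + 1) * q) - (q ^ 4 - 1) := dvd_sub (h2.mul_right _) h1
  rw [show ((q : ℤ) ^ 2 - q + 1) * ((q + 1) * q) - (q ^ 4 - 1) = q + 1 by ring] at h3
  have h4 : (r : ℤ) ∣ ((q : ℤ) ^ 2 - q + 1) - (q + 1) * (q - 2) := dvd_sub h2 (h3.mul_right _)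
  rwa [show ((q : ℤ) ^ 2 - q + 1) - (q + 1) * (q - 2) = 3 by ring] at h4

theorem six_sq_add (hq : 1 ≤ q) (hr : r.Prime) (h : r ∣ R6 q) : ¬ (r : ℤ) ∣ (q : ℤ) ^ 2 + 1 := by
  intro h1
  apply six_four hq hr h
  exact (h1.mul_right ((q : ℤ) ^ 2 - 1)).trans (dvd_of_eq (by ring))

theorem six_sq_sub (hq : 1 ≤ q) (hr : r.Prime) (h : r ∣ R6 q) : ¬ (r : ℤ) ∣ (q : ℤ) ^ 2 - 1 := by
  intro h1
  apply six_four hq hr h
  exact (h1.mul_right ((q : ℤ) ^ 2 + 1)).trans (dvd_of_eq (by ring))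

end six

/-! ### Primes dividing `R3 q` -/

section three

variable {r : ℕ}

theorem ne_two_of_R3 (hq : 1 ≤ q) (h : r ∣ R3 q) : r ≠ 2 := by
  rintro rfl
  exact (Nat.not_even_iff_odd.2 (odd_R3 hq)) (even_iff_two_dvd.2 h)

theorem ne_three_of_R3 (hq : 1 ≤ q) (h : r ∣ R3 q) : r ≠ 3 := by
  rintro rfl
  exact not_three_R3 hq h

theorem dvd_three_of_R3 (hq : 1 ≤ q) (h : r ∣ R3 q) : (r : ℤ) ∣ (q : ℤ) ^ 2 + q + 1 := by
  have h1 : r ∣ q ^ 2 + q + 1 := by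
    rw [← R3_mul hq]
    exact h.mul_right _
  exact_mod_cast h1

theorem three_q (hq : 1 ≤ q) (hr : r.Prime) (h : r ∣ R3 q) : ¬ (r : ℤ) ∣ (q : ℤ) := by
  intro h1
  have h2 := dvd_three_of_R3 hq h
  apply not_dvd_one_int hr
  have h3 : (r : ℤ) ∣ ((q : ℤ) ^ 2 + q + 1) - q * (q + 1) := dvd_sub h2 (h1.mul_right _)
  rwa [show ((q : ℤ) ^ 2 + q + 1) - q * (q + 1) = 1 by ring] at h3

theorem three_cube_add (hq : 1 ≤ q) (hr : r.Prime) (h : r ∣ R3 q) : ¬ (r : ℤ) ∣ (q : ℤ) ^ 3 + 1 := by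
  intro h1
  have h2 := dvd_three_of_R3 hq h
  apply not_dvd_two_int hr (ne_two_of_R3 hq h)
  have h3 : (r : ℤ) ∣ (q ^ 3 + 1) - ((q : ℤ) ^ 2 + q + 1) * (q - 1) := dvd_sub h1 (h2.mul_right _)
  rwa [show (q ^ 3 + 1) - ((q : ℤ) ^ 2 + q + 1) * (q - 1) = 2 by ring] at h3

theorem three_four (hq : 1 ≤ q) (hr : r.Prime) (h : r ∣ R3 q) : ¬ (r : ℤ) ∣ (q : ℤ) ^ 4 - 1 := by
  intro h1
  have h2 := dvd_three_of_R3 hq h
  apply not_dvd_three_int hr (ne_three_of_R3 hq h)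
  have h3 : (r : ℤ) ∣ (q ^ 4 - 1) - ((q : ℤ) ^ 2 + q + 1) * ((q - 1) * q) := dvd_sub h1 (h2.mul_right _)
  rw [show (q ^ 4 - 1) - ((q : ℤ) ^ 2 + q + 1) * ((q - 1) * q) = q - 1 by ring] at h3
  have h4 : (r : ℤ) ∣ ((q : ℤ) ^ 2 + q + 1) - (q - 1) * (q + 2) := dvd_sub h2 (h3.mul_right _)
  rwa [show ((q : ℤ) ^ 2 + q + 1) - (q - 1) * (q + 2) = 3 by ring] at h4

theorem three_sq_add (hq : 1 ≤ q) (hr : r.Prime) (h : r ∣ R3 q) : ¬ (r : ℤ) ∣ (q : ℤ) ^ 2 + 1 := by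
  intro h1
  apply three_four hq hr h
  exact (h1.mul_right ((q : ℤ) ^ 2 - 1)).trans (dvd_of_eq (by ring))

theorem three_sq_sub (hq : 1 ≤ q) (hr : r.Prime) (h : r ∣ R3 q) : ¬ (r : ℤ) ∣ (q : ℤ) ^ 2 - 1 := by
  intro h1
  apply three_four hq hr h
  exact (h1.mul_right ((q : ℤ) ^ 2 + 1)).trans (dvd_of_eq (by ring))

end three

/-! ### Isolation -/

theorem int_pow_sub {k r : ℕ} (hq : 1 ≤ q) (h : r ∣ q ^ k - 1) : (r : ℤ) ∣ (q : ℤ) ^ k - 1 := by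
  have h1 : ((q ^ k - 1 : ℕ) : ℤ) = (q : ℤ) ^ k - 1 := by
    push_cast [Nat.one_le_pow k q hq]; ring
  rw [← h1]
  exact_mod_cast h

theorem half_dvd {a b : ℕ} (h : b ∣ a / 2) (h2 : 2 ∣ a) : b ∣ a := h.trans (Nat.div_dvd_of_dvd h2)

section P5

variable {r N : ℕ}

theorem P5.one_le (h : P5 q) : 1 ≤ q := by have := h.five_le; omega

theorem P5.odd (h : P5 q) : Odd q := Nat.odd_iff.2 (by have := h.mod4; omega)

theorem P5.pow_mod (h : P5 q) (k : ℕ) : q ^ k % 4 = 1 := by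
  rw [Nat.pow_mod, h.mod4]; simp

theorem P5.two_dvd_add (h : P5 q) (k : ℕ) : 2 ∣ q ^ k + 1 := by
  have := h.pow_mod k; omega

theorem P5.four_dvd_sub (h : P5 q) (k : ℕ) : 4 ∣ q ^ k - 1 := by
  have := h.pow_mod k; omega

theorem P5.five_dvd_pow (h : P5 q) (k : ℕ) (hk : k ≠ 0) : 5 ∣ q ^ k := dvd_pow h.dvd hk

theorem P5.ne_five6 (h : P5 q) (h6 : r ∣ R6 q) (hr : r.Prime) : r ≠ 5 := by
  rintro rfl
  exact six_q h.one_le hr h6 (by exact_mod_cast h.dvd)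

theorem P5.ne_five3 (h : P5 q) (h3 : r ∣ R3 q) (hr : r.Prime) : r ≠ 5 := by
  rintro rfl
  exact three_q h.one_le hr h3 (by exact_mod_cast h.dvd)

/-- **Element orders divisible by a prime divisor of `R6 q`.** -/
theorem P5.iso6 (h : P5 q) (hr : r.Prime) (h6 : r ∣ R6 q) (hN : Om5 q N) (hrN : r ∣ N) : N ∣ (q ^ 3 + 1) / 2 := by
  have h1 := h.one_le
  have hr5 := h.ne_five6 h6 hr
  rcases hN with hN | hN | hN | hN | hN | hN
  · exact hN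
  · exfalso
    have h2 : r ∣ q ^ 3 - 1 := half_dvd (hrN.trans hN) (by have := h.four_dvd_sub 3; omega)
    exact six_cube_sub h1 hr h6 (int_pow_sub h1 h2)
  · exfalso
    have h2 : r ∣ q ^ 4 - 1 := half_dvd (hrN.trans hN) (by have := h.four_dvd_sub 4; omega)
    exact six_four h1 hr h6 (int_pow_sub h1 h2)
  · exfalso
    rcases hr.dvd_mul.1 (hrN.trans hN) with h2 | h2
    · exact hr5 ((Nat.prime_dvd_prime_iff_eq hr Nat.prime_five).1 h2)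
    · exact six_sq_add h1 hr h6 (by exact_mod_cast h2)
  · exfalso
    rcases hr.dvd_mul.1 (hrN.trans hN) with h2 | h2
    · exact hr5 ((Nat.prime_dvd_prime_iff_eq hr Nat.prime_five).1 h2)
    · exact six_sq_sub h1 hr h6 (int_pow_sub h1 h2)
  · exfalso
    have h2 : r ∣ 5 ^ 2 := (hrN.trans hN).trans (by norm_num)
    exact hr5 ((Nat.prime_dvd_prime_iff_eq hr Nat.prime_five).1 (hr.dvd_of_dvd_pow h2))

/-- **Element orders divisible by a prime divisor of `R3 q`.** -/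
theorem P5.iso3 (h : P5 q) (hr : r.Prime) (h3 : r ∣ R3 q) (hN : Om5 q N) (hrN : r ∣ N) : N ∣ (q ^ 3 - 1) / 2 := by
  have h1 := h.one_le
  have hr5 := h.ne_five3 h3 hr
  rcases hN with hN | hN | hN | hN | hN | hN
  · exfalso
    have h2 : r ∣ q ^ 3 + 1 := half_dvd (hrN.trans hN) (h.two_dvd_add 3)
    exact three_cube_add h1 hr h3 (by exact_mod_cast h2)
  · exact hN
  · exfalso
    have h2 : r ∣ q ^ 4 - 1 := half_dvd (hrN.trans hN) (by have := h.four_dvd_sub 4; omega)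
    exact three_four h1 hr h3 (int_pow_sub h1 h2)
  · exfalso
    rcases hr.dvd_mul.1 (hrN.trans hN) with h2 | h2
    · exact hr5 ((Nat.prime_dvd_prime_iff_eq hr Nat.prime_five).1 h2)
    · exact three_sq_add h1 hr h3 (by exact_mod_cast h2)
  · exfalso
    rcases hr.dvd_mul.1 (hrN.trans hN) with h2 | h2
    · exact hr5 ((Nat.prime_dvd_prime_iff_eq hr Nat.prime_five).1 h2)
    · exact three_sq_sub h1 hr h3 (int_pow_sub h1 h2)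
  · exfalso
    have h2 : r ∣ 5 ^ 2 := (hrN.trans hN).trans (by norm_num)
    exact hr5 ((Nat.prime_dvd_prime_iff_eq hr Nat.prime_five).1 (hr.dvd_of_dvd_pow h2))

theorem P5.odd_half (h : P5 q) : Odd ((q ^ 3 + 1) / 2) := by
  have := h.pow_mod 3
  rw [Nat.odd_iff]
  omega

theorem P5.half_eq (h : P5 q) : (q ^ 3 + 1) / 2 = (q ^ 3 - 1) / 2 + 1 := by
  have := h.pow_mod 3
  omega

theorem P5.coprime_half (h : P5 q) : Nat.Coprime ((q ^ 3 + 1) / 2) ((q ^ 3 - 1) / 2) := by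
  rw [h.half_eq]
  simp

theorem P5.not_five_add (h : P5 q) : ¬ 5 ∣ (q ^ 3 + 1) / 2 := by
  intro h1
  have h2 := half_dvd h1 (h.two_dvd_add 3)
  have h3 := h.five_dvd_pow 3 (by norm_num)
  omega

theorem P5.not_five_sub (h : P5 q) : ¬ 5 ∣ (q ^ 3 - 1) / 2 := by
  intro h1
  have h2 := half_dvd h1 (by have := h.four_dvd_sub 3; omega)
  have h3 := h.five_dvd_pow 3 (by norm_num)
  have h4 : 1 ≤ q ^ 3 := Nat.one_le_pow _ _ h.one_le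
  omega

/-! ### Bounds -/

theorem gcd_six_le (q : ℕ) : Nat.gcd 3 (q + 1) ≤ 3 := Nat.gcd_le_left _ (by norm_num)

theorem gcd_three_le (q : ℕ) : Nat.gcd 3 (q - 1) ≤ 3 := Nat.gcd_le_left _ (by norm_num)

theorem le_R6 (hq : 1 ≤ q) : q ^ 2 + 1 ≤ 3 * R6 q + q := by
  have h1 := R6_mul hq
  have h2 := gcd_six_le q
  have h3 : q ≤ q ^ 2 := by nlinarith
  have h4 : R6 q * Nat.gcd 3 (q + 1) ≤ R6 q * 3 := Nat.mul_le_mul_left _ h2
  omega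

theorem le_R3 (hq : 1 ≤ q) : q ^ 2 + q + 1 ≤ 3 * R3 q := by
  have h1 := R3_mul hq
  have h2 := gcd_three_le q
  have h4 : R3 q * Nat.gcd 3 (q - 1) ≤ R3 q * 3 := Nat.mul_le_mul_left _ h2
  omega

theorem R6_le (hq : 1 ≤ q) : R6 q ≤ q ^ 2 - q + 1 := by
  rw [← R6_mul hq]
  exact Nat.le_mul_of_pos_right _ (Nat.gcd_pos_of_pos_left _ (by norm_num))

theorem R3_le (hq : 1 ≤ q) : R3 q ≤ q ^ 2 + q + 1 := by
  rw [← R3_mul hq]
  exact Nat.le_mul_of_pos_right _ (Nat.gcd_pos_of_pos_left _ (by norm_num))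

/-- `R6 q ≤ 3 * R3 q` -/
theorem R6_le_R3 (hq : 1 ≤ q) : R6 q ≤ 3 * R3 q := by
  have h1 := R6_le hq
  have h2 := le_R3 hq
  have : q ≤ q ^ 2 := by nlinarith
  omega

theorem P5.bound (h : P5 q) (hN : N ≤ (q ^ 3 + 1) / 2) : N ^ 2 ≤ 12 * R6 q ^ 3 := by
  have h1 := le_R6 h.one_le
  have h5 := h.five_le
  have h2 : 2 * N ≤ q ^ 3 + 1 := by omega
  have h3 : (2 * N) ^ 2 ≤ (q ^ 3 + 1) ^ 2 := Nat.pow_le_pow_left h2 2
  have h4 : (q ^ 2 - q + 1 : ℤ) ≤ 3 * R6 q := by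
    have : ((q ^ 2 + 1 : ℕ) : ℤ) ≤ ((3 * R6 q + q : ℕ) : ℤ) := by exact_mod_cast h1
    push_cast at this
    linarith
  have h6 : (0 : ℤ) ≤ q ^ 2 - q + 1 := by nlinarith [sq_nonneg ((q : ℤ) - 1)]
  have h7 : ((q : ℤ) ^ 2 - q + 1) ^ 3 ≤ (3 * R6 q) ^ 3 := pow_le_pow_left₀ h6 h4 3
  have h8 : ((q : ℤ) ^ 3 + 1) ^ 2 * 27 ≤ 48 * ((q : ℤ) ^ 2 - q + 1) ^ 3 := by
    have h9 : (5 : ℤ) ≤ q := by exact_mod_cast h5
    have h10 : ((q : ℤ) ^ 3 + 1) ^ 2 = ((q : ℤ) ^ 2 - q + 1) ^ 2 * (q + 1) ^ 2 := by ring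
    have h11 : 27 * ((q : ℤ) + 1) ^ 2 ≤ 48 * ((q : ℤ) ^ 2 - q + 1) := by nlinarith
    have h12 : 0 ≤ ((q : ℤ) ^ 2 - q + 1) ^ 2 := sq_nonneg _
    rw [h10]
    nlinarith [mul_le_mul_of_nonneg_left h11 h12]
  have h13 : (4 : ℤ) * N ^ 2 * 27 ≤ 48 * (27 * (R6 q : ℤ) ^ 3) := by
    have h14 : ((2 * N : ℕ) : ℤ) ^ 2 ≤ ((q ^ 3 + 1 : ℕ) : ℤ) ^ 2 := by exact_mod_cast h3
    push_cast at h14
    calc (4 : ℤ) * N ^ 2 * 27 = (2 * (N : ℤ)) ^ 2 * 27 := by ring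
      _ ≤ ((q : ℤ) ^ 3 + 1) ^ 2 * 27 := by linarith
      _ ≤ 48 * ((q : ℤ) ^ 2 - q + 1) ^ 3 := h8
      _ ≤ 48 * (3 * (R6 q : ℤ)) ^ 3 := by linarith
      _ = 48 * (27 * (R6 q : ℤ) ^ 3) := by ring
  have h15 : (N : ℤ) ^ 2 ≤ 12 * (R6 q : ℤ) ^ 3 := by linarith
  exact_mod_cast h15

theorem P5.bound3 (h : P5 q) (hN : N ≤ (q ^ 3 + 1) / 2) : N ^ 2 ≤ 7 * R3 q ^ 3 := by
  have h1 := le_R3 h.one_le
  have h2 : 2 * N ≤ q ^ 3 + 1 := by omega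
  have h3 : (2 * N) ^ 2 ≤ (q ^ 3 + 1) ^ 2 := Nat.pow_le_pow_left h2 2
  have h4 : (q ^ 2 + q + 1) ^ 3 ≤ (3 * R3 q) ^ 3 := Nat.pow_le_pow_left h1 3
  have h5 : (q ^ 3 + 1) ^ 2 ≤ (q ^ 2 + q + 1) ^ 3 := by
    have : (q ^ 2 + q + 1) ^ 3 = (q ^ 3 + 1) ^ 2 + (3 * q ^ 5 + 6 * q ^ 4 + 5 * q ^ 3 + 6 * q ^ 2 + 3 * q) := by ring
    omega
  have h6 : 4 * N ^ 2 ≤ 27 * R3 q ^ 3 := by
    calc 4 * N ^ 2 = (2 * N) ^ 2 := by ring
      _ ≤ (3 * R3 q) ^ 3 := h3.trans (h5.trans h4)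
      _ = 27 * R3 q ^ 3 := by ring
  omega

/-- **The key relation**: `X` an element order divisible by `R6 q`. -/
theorem P5.key (h : P5 q) {X : ℕ} (h6 : R6 q ∣ X) (hX : X ∣ (q ^ 3 + 1) / 2) :
    ∃ s : ℕ, 0 < s ∧ Odd s ∧ s * X = (q ^ 3 + 1) / 2 ∧ s ^ 2 ≤ 12 * R6 q ∧
      (∃ a : ℕ, X = a * R6 q ∧ 2 * (s * a) = Nat.gcd 3 (q + 1) * (q + 1)) ∧
      ∀ Y : ℕ, Y ∣ (q ^ 3 - 1) / 2 → Y ∣ s * X - 1 := by
  obtain ⟨s, hs⟩ := hX
  have hpos : 0 < (q ^ 3 + 1) / 2 := by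
    have := h.pow_mod 3
    have h1 : 1 ≤ q ^ 3 := Nat.one_le_pow _ _ h.one_le
    omega
  have hs0 : 0 < s := by
    rcases Nat.eq_zero_or_pos s with h0 | h0
    · rw [h0, mul_zero] at hs; omega
    · exact h0
  have hodd := h.odd_half
  rw [hs] at hodd
  obtain ⟨a, ha⟩ := h6
  have hR := R6_mul h.one_le
  have h3 : 2 * ((q ^ 3 + 1) / 2) = q ^ 3 + 1 := Nat.mul_div_cancel' (h.two_dvd_add 3)
  have hcube : q ^ 3 + 1 = (q ^ 2 - q + 1) * (q + 1) := by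
    have h4 : ((q ^ 3 + 1 : ℕ) : ℤ) = (((q ^ 2 - q + 1) * (q + 1) : ℕ) : ℤ) := by
      rw [Nat.cast_mul, cast_six h.one_le]; push_cast; ring
    exact_mod_cast h4
  have hRpos : 0 < R6 q := by
    rcases Nat.eq_zero_or_pos (R6 q) with h0 | h0
    · rw [h0, zero_mul] at hR; omega
    · exact h0
  have h4 : 2 * (s * a) = Nat.gcd 3 (q + 1) * (q + 1) := by
    apply Nat.eq_of_mul_eq_mul_left hRpos
    calc R6 q * (2 * (s * a)) = 2 * (R6 q * a * s) := by ring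
      _ = (R6 q * Nat.gcd 3 (q + 1)) * (q + 1) := by rw [← ha, ← hs, h3, hcube, hR]
      _ = R6 q * (Nat.gcd 3 (q + 1) * (q + 1)) := by ring
  have ha0 : 0 < a := by
    rcases Nat.eq_zero_or_pos a with h0 | h0
    · rw [h0, mul_zero] at ha
      rw [ha, zero_mul] at hs; omega
    · exact h0
  refine ⟨s, hs0, (Nat.odd_mul.1 hodd).2, by rw [hs, mul_comm], ?_, ⟨a, by rw [ha, mul_comm], h4⟩, ?_⟩
  · -- `2 s ≤ c (q + 1)`
    have h5 : 2 * s ≤ Nat.gcd 3 (q + 1) * (q + 1) := by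
      rw [← h4]
      have : s ≤ s * a := Nat.le_mul_of_pos_right _ ha0
      omega
    have hq5 := h.five_le
    have h7 : 4 * s ^ 2 ≤ (Nat.gcd 3 (q + 1)) ^ 2 * (q + 1) ^ 2 := by
      calc 4 * s ^ 2 = (2 * s) ^ 2 := by ring
        _ ≤ (Nat.gcd 3 (q + 1) * (q + 1)) ^ 2 := Nat.pow_le_pow_left h5 2
        _ = _ := by ring
    have h8 : (q + 1) ^ 2 ≤ 2 * (q ^ 2 - q + 1) := by
      have h9 : (((q + 1) ^ 2 : ℕ) : ℤ) ≤ ((2 * (q ^ 2 - q + 1) : ℕ) : ℤ) := by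
        rw [Nat.cast_mul, cast_six h.one_le]
        push_cast
        have : (5 : ℤ) ≤ q := by exact_mod_cast hq5
        nlinarith
      exact_mod_cast h9
    have hc : Nat.gcd 3 (q + 1) = 1 ∨ Nat.gcd 3 (q + 1) = 3 := by
      rcases gcd_six q with h | h
      · exact Or.inl h.1
      · exact Or.inr h.1
    rcases hc with hc | hc
    · rw [hc] at h7 hR
      omega
    · rw [hc] at h7 hR
      -- `4 s² ≤ 9 (q+1)²`, `(q + 1)² ≤ 2 * 3 * R6`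
      -- a finer bound is needed
      have h10 : 7 * (q + 1) ^ 2 ≤ 12 * (q ^ 2 - q + 1) := by
        have h9 : ((7 * (q + 1) ^ 2 : ℕ) : ℤ) ≤ ((12 * (q ^ 2 - q + 1) : ℕ) : ℤ) := by
          rw [Nat.cast_mul, Nat.cast_mul, cast_six h.one_le]
          push_cast
          have : (5 : ℤ) ≤ q := by exact_mod_cast hq5
          nlinarith
        exact_mod_cast h9
      rw [← hR] at h10
      omega
  · intro Y hY
    rw [mul_comm, ← hs]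
    have := h.half_eq
    rw [this, Nat.add_sub_cancel]
    exact hY

end P5

end

end Cfsg.Agent.H374.S6
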